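import Cfsg.Agent.Lib.PLocal.QuadThm
import Cfsg.Agent.S3080
import Cfsg.Agent.Lib.Transfer.Fusion
import Cfsg.Agent.Lib.Components.Local
import Cfsg.Agent.Lib.PLocal.Embedding

/-!
CN-theorem for odd order: `p`-stability and control of fusion.
-/

set_option autoImplicit false
set_option linter.unusedSectionVars false
set_option linter.style.haveILetI false

namespace Cfsg.Agent.Lib.CNThm

open Subgroup Cfsg
open scoped commutatorElement

universe u

theorem mem_pCore_of_eq {p : ℕ} {X : Type*} [Group X] {A B : Subgroup X} [A.Normal] [B.Normal] (h : A = B) (x : X)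
    (hx : (QuotientGroup.mk x : X ⧸ A) ∈ pCore p (X ⧸ A)) : (QuotientGroup.mk x : X ⧸ B) ∈ pCore p (X ⧸ B) := by
  subst h
  convert hx

theorem ab2_of_odd {X : Type u} [Group X] [Finite X] (hodd : Odd (Nat.card X)) : Cfsg.Agent.Lib.PLocal.Ab2 X := by
  intro T hT x hx y hy
  have h2 : Nat.card T ∣ Nat.card X := Subgroup.card_subgroup_dvd_card T
  obtain ⟨k, hk⟩ := hT.exists_card_eq
  have hk0 : k = 0 := by
    by_contra hne
    have h3 : 2 ∣ Nat.card T := by
      rw [hk]; exact dvd_pow_self 2 hne
    have h4 : 2 ∣ Nat.card X := h3.trans h2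
    exact (Nat.not_even_iff_odd.mpr hodd) (even_iff_two_dvd.mpr h4)
  rw [hk0, pow_zero] at hk
  have h5 : Subsingleton T := (Nat.card_eq_one_iff_unique.mp hk).1
  have h6 : (⟨x, hx⟩ : T) = ⟨y, hy⟩ := Subsingleton.elim _ _
  have h7 : x = y := congrArg Subtype.val h6
  rw [h7]

/-- Groups of odd order are `p`-stable (in normalizer form) for `p ≠ 2`. -/
theorem isNormalizerPStable_of_odd {G : Type u} [Group G] [Finite G] (hodd : Odd (Nat.card G)) {p : ℕ} [Fact p.Prime]
    (hp : p ≠ 2) : IsNormalizerPStable p G := by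
  classical
  intro P hP g hg hq
  set X : Subgroup G := normalizer (P : Set G) with hX
  have hXodd : Odd (Nat.card X) := Odd.of_dvd_nat hodd (Subgroup.card_subgroup_dvd_card X)
  set V : Subgroup X := P.subgroupOf X with hV
  haveI hVn : V.Normal := Subgroup.normal_in_normalizer
  have hVp : IsPGroup p V := hP.comap_subtype
  have hPX : P ≤ X := Subgroup.le_normalizer
  have hmapV : V.map X.subtype = P := by
    rw [hV, Subgroup.subgroupOf_map_subtype]
    exact inf_eq_left.mpr hPX
  have hq' : ⁅⁅V, zpowers (⟨g, hg⟩ : X)⁆, zpowers (⟨g, hg⟩ : X)⁆ = ⊥ := by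
    apply Subgroup.map_injective X.subtype_injective
    rw [Subgroup.map_bot, Subgroup.map_commutator, Subgroup.map_commutator, hmapV, MonoidHom.map_zpowers]
    exact hq
  have h1 := Cfsg.Agent.Lib.PLocal.isPStableOn_of_class (Cfsg.Agent.Lib.PLocal.ab2Class hp) (ab2_of_odd hXodd) V hVp
    ⟨g, hg⟩ hq'
  have hC : centralizer (V : Set X) = (centralizer (P : Set G)).subgroupOf X := by
    ext y
    rw [Subgroup.mem_subgroupOf, Subgroup.mem_centralizer_iff, Subgroup.mem_centralizer_iff]
    constructor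
    · intro h w hw
      have := h ⟨w, hPX hw⟩ (by
        show w ∈ P
        exact hw)
      exact congrArg Subtype.val this
    · rintro h ⟨w, hwX⟩ hw
      exact Subtype.ext (h w hw)
  exact mem_pCore_of_eq hC _ h1

end Cfsg.Agent.Lib.CNThm
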