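import Cfsg.Agent.S1474
import Cfsg.Agent.Lib.OddLocal.CNSolv
import Cfsg.Agent.Lib.OddLocal.Fitting

/-!
CN-theorem for odd order: solvable CN groups.
-/

set_option autoImplicit false
set_option linter.unusedSectionVars false
set_option linter.style.haveILetI false

namespace Cfsg.Agent.Lib.CNThm

open Subgroup Cfsg Cfsg.Agent.Lib.OddLocal
open scoped commutatorElement

universe u

theorem isCN_subgroup {G : Type*} [Group G] (hCN : IsCNGroup G) (H : Subgroup G) : IsCNGroup H := by
  intro x hx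
  have hx' : (x : G) ≠ 1 := fun e => hx (Subtype.ext e)
  have h1 := hCN x hx'
  have hle : (centralizer ({x} : Set H)).map H.subtype ≤ centralizer ({(x : G)} : Set G) := by
    rintro _ ⟨y, hy, rfl⟩
    have hy' := mem_centralizer_singleton'.mp hy
    exact mem_centralizer_singleton'.mpr (congrArg Subtype.val hy')
  have h2 := Cfsg.Agent.Lib.Basic.isNilpotent_of_le hle h1
  exact (Group.isNilpotent_congr (Subgroup.equivMapOfInjective (centralizer ({x} : Set H)) H.subtype
    H.subtype_injective)).mpr h2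

/-- A Sylow subgroup inside the commutator subgroup dies in every nilpotent quotient. -/
theorem sylow_le_of_nilpotent_quotient {X : Type*} [Group X] [Finite X] {p : ℕ} [Fact p.Prime] (S : Sylow p X)
    (hS : (S : Subgroup X) ≤ commutator X) (W : Subgroup X) [W.Normal] (hQ : Group.IsNilpotent (X ⧸ W)) :
    (S : Subgroup X) ≤ W := by
  classical
  have hpp : p.Prime := Fact.out
  haveI : Group.IsNilpotent (X ⧸ W) := hQ
  let π : X →* X ⧸ W := QuotientGroup.mk' W
  have hπ : Function.Surjective π := QuotientGroup.mk'_surjective W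
  set R : Subgroup (X ⧸ W) := pPrimeCore p (X ⧸ W) with hR
  haveI hRn : R.Normal := Cfsg.Agent.Lib.Basic.pPrimeCore_normal p
  let ρ : X →* (X ⧸ W) ⧸ R := (QuotientGroup.mk' R).comp π
  have hρ : Function.Surjective ρ := (QuotientGroup.mk'_surjective R).comp hπ
  have hY : commutator ((X ⧸ W) ⧸ R) = ⊤ := by
    rw [eq_top_iff]
    intro y _
    obtain ⟨x, rfl⟩ := hρ y
    obtain ⟨a, ha, b, hb, e⟩ := exists_pCore_mul_pPrimeCore p (π x)
    have haT : a ∈ ((S.mapSurjective hπ : Sylow p (X ⧸ W)) : Subgroup (X ⧸ W)) :=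
      Cfsg.Agent.Lib.Basic.pCore_le_sylow _ ha
    rw [Sylow.coe_mapSurjective] at haT
    obtain ⟨s, hs, rfl⟩ := haT
    have h1 : ρ x = ρ s := by
      show (QuotientGroup.mk (π x) : (X ⧸ W) ⧸ R) = QuotientGroup.mk (π s)
      rw [e, QuotientGroup.mk_mul, (QuotientGroup.eq_one_iff b).mpr hb, mul_one]
    rw [h1]
    have h2 : ρ s ∈ (commutator X).map ρ := ⟨s, hS hs, rfl⟩
    rw [commutator_def, Subgroup.map_commutator, Subgroup.map_top_of_surjective _ hρ] at h2
    exact h2
  have hYtriv : Subsingleton ((X ⧸ W) ⧸ R) := by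
    by_contra hne
    haveI : Nontrivial ((X ⧸ W) ⧸ R) := not_subsingleton_iff_nontrivial.mp hne
    have h3 := IsSolvable.commutator_lt_top_of_nontrivial ((X ⧸ W) ⧸ R)
    rw [hY] at h3
    exact lt_irrefl _ h3
  intro s hs
  have hπs : π s ∈ R := by
    rw [← QuotientGroup.eq_one_iff]
    exact Subsingleton.elim _ _
  have h4 : (orderOf (π s)).Coprime p :=
    Nat.Coprime.coprime_dvd_left (Subgroup.orderOf_dvd_natCard R hπs) (Cfsg.Agent.Lib.Basic.pPrimeCore_coprime p)
  obtain ⟨k, hk⟩ := S.isPGroup' ⟨s, hs⟩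
  have h5 : (s : X) ^ p ^ k = 1 := congrArg Subtype.val hk
  have h6 : π s ^ p ^ k = 1 := by rw [← map_pow, h5, map_one]
  have h7 : orderOf (π s) ∣ p ^ k := orderOf_dvd_of_pow_eq_one h6
  have h8 : orderOf (π s) = 1 := Nat.Coprime.eq_one_of_dvd (h4.pow_right k) h7
  rw [orderOf_eq_one_iff] at h8
  exact (QuotientGroup.eq_one_iff s).mp h8

/-- A Sylow subgroup contained in a normal nilpotent subgroup is normal. -/
theorem sylow_normal_of_le_nilpotent {X : Type*} [Group X] [Finite X] {p : ℕ} [Fact p.Prime] (S : Sylow p X)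
    (N : Subgroup X) [hN : N.Normal] (hNn : Group.IsNilpotent N) (hSN : (S : Subgroup X) ≤ N) :
    (S : Subgroup X).Normal := by
  have h1 : (S : Subgroup X) ≤ Oq p N := by
    intro s hs
    obtain ⟨k, hk⟩ := S.isPGroup' ⟨s, hs⟩
    exact mem_Oq hNn (hSN hs) (k := k) (congrArg Subtype.val hk)
  have h2 : Oq p N = S := S.is_maximal' (Oq_isPGroup p N) h1
  refine ⟨fun s hs x => ?_⟩
  rw [← h2]
  obtain ⟨k, hk⟩ := S.isPGroup' ⟨s, hs⟩
  have h3 : s ^ p ^ k = 1 := congrArg Subtype.val hk
  refine mem_Oq hNn (hN.conj_mem s (hSN hs) x) (k := k) ?_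
  rw [conj_pow, h3, mul_one, mul_inv_cancel]

/-- Iterating an action. -/
theorem pow_conj_of_acts {G : Type*} [Group G] {K : Subgroup G} {a u : G} (ha : ∀ y ∈ K, a * y * a⁻¹ ∈ K)
    (h : ∀ y ∈ K, a * y * a⁻¹ = u * y * u⁻¹) (n : ℕ) :
    ∀ y ∈ K, a ^ n * y * (a ^ n)⁻¹ = u ^ n * y * (u ^ n)⁻¹ := by
  induction n with
  | zero => intro y _; simp
  | succ n ih =>
    intro y hy
    have h1 := ih _ (ha y hy)
    calc a ^ (n + 1) * y * (a ^ (n + 1))⁻¹ = a ^ n * (a * y * a⁻¹) * (a ^ n)⁻¹ := by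
          rw [pow_succ]; group
      _ = u ^ n * (a * y * a⁻¹) * (u ^ n)⁻¹ := h1
      _ = u ^ n * (u * y * u⁻¹) * (u ^ n)⁻¹ := by rw [h y hy]
      _ = u ^ (n + 1) * y * (u ^ (n + 1))⁻¹ := by
          rw [pow_succ]; group

theorem pow_comm_of_acts {G : Type*} [Group G] {K : Subgroup G} {a u : G} (ha : ∀ y ∈ K, a * y * a⁻¹ ∈ K)
    (h : ∀ y ∈ K, a * y * a⁻¹ = u * y * u⁻¹) {t : ℕ} (hu : u ^ t = 1) : ∀ y ∈ K, a ^ t * y = y * a ^ t := by
  intro y hy
  have h1 := pow_conj_of_acts ha h t y hy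
  rw [hu] at h1
  simp only [one_mul, inv_one, mul_one] at h1
  rw [← mul_inv_eq_iff_eq_mul]
  exact h1

/-- A `p`-element lying in the coset structure: membership in normal subgroups of coprime index. -/
theorem mem_of_pow_eq_one_of_coprime_index {X : Type*} [Group X] [Finite X] (W : Subgroup X) [W.Normal] {x : X} {m : ℕ}
    (hx : x ^ m = 1) (hc : m.Coprime W.index) : x ∈ W := by
  have h1 : ((x : X ⧸ W)) ^ m = 1 := by rw [← QuotientGroup.mk_pow, hx, QuotientGroup.mk_one]
  have h2 : ((x : X ⧸ W)) ^ W.index = 1 := by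
    rw [Subgroup.index_eq_card]
    exact pow_card_eq_one'
  have h3 : orderOf (x : X ⧸ W) = 1 := by
    have h4 := Nat.dvd_gcd (orderOf_dvd_of_pow_eq_one h1) (orderOf_dvd_of_pow_eq_one h2)
    rw [hc.gcd_eq_one] at h4
    exact Nat.dvd_one.mp h4
  rw [orderOf_eq_one_iff] at h3
  exact (QuotientGroup.eq_one_iff x).mp h3

theorem pow_ne_one_of_coprime {X : Type*} [Group X] {a : X} {t N : ℕ} (hat : a ^ N = 1) (hc : N.Coprime t) (ha : a ≠ 1) :
    a ^ t ≠ 1 := by
  intro h
  have h4 := Nat.dvd_gcd (orderOf_dvd_of_pow_eq_one hat) (orderOf_dvd_of_pow_eq_one h)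
  rw [hc.gcd_eq_one] at h4
  exact ha (orderOf_eq_one_iff.mp (Nat.dvd_one.mp h4))

theorem fpf_contra {X : Type*} [Group X] {K A : Subgroup X} (hK : K ≠ ⊥)
    (hfpf : ∀ a ∈ A, a ≠ 1 → K ⊓ centralizer ({a} : Set X) = ⊥) {b : X} (hb : b ∈ A) (hb1 : b ≠ 1)
    (hc : ∀ y ∈ K, b * y = y * b) : False := by
  apply hK
  rw [eq_bot_iff, ← hfpf b hb hb1]
  intro y hy
  exact ⟨hy, mem_centralizer_singleton'.mpr (hc y hy)⟩

/-- Action by conjugation through an element. -/
theorem acts_of_mul {G : Type*} [Group G] {K : Subgroup G} {z f e : G} (hze : z = f * e)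
    (hz : ∀ y ∈ K, z * y = y * z) : ∀ y ∈ K, e * y * e⁻¹ = f⁻¹ * y * f⁻¹⁻¹ := by
  intro y hy
  have h1 : e = f⁻¹ * z := by rw [hze]; group
  rw [h1]
  have h2 := hz y hy
  calc f⁻¹ * z * y * (f⁻¹ * z)⁻¹ = f⁻¹ * (z * y) * z⁻¹ * f := by group
    _ = f⁻¹ * (y * z) * z⁻¹ * f := by rw [h2]
    _ = f⁻¹ * y * f⁻¹⁻¹ := by group

theorem disjoint_of_card_coprime {X : Type*} [Group X] {A B : Subgroup X} (h : (Nat.card A).Coprime (Nat.card B)) :
    Disjoint A B := by
  rw [Subgroup.disjoint_def]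
  intro x ha hb
  have h4 := Nat.dvd_gcd (Subgroup.orderOf_dvd_natCard A ha) (Subgroup.orderOf_dvd_natCard B hb)
  rw [h.gcd_eq_one] at h4
  exact orderOf_eq_one_iff.mp (Nat.dvd_one.mp h4)

/-- In a three-step group for the prime `q`, there is no nontrivial normal `p`-subgroup for `p ≠ q`. -/
theorem threeStep_pCore_eq_bot {X : Type*} [Group X] [Finite X] {q p : ℕ} [Fact q.Prime] [Fact p.Prime] (hpq : p ≠ q)
    (h : IsThreeStepGroup q X) : pCore p X = ⊥ := by
  classical
  have hpp : p.Prime := Fact.out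
  have hqp : q.Prime := Fact.out
  obtain ⟨hK, A, hA1, hAcyc, hAodd, hAcop, hKAn, hKAtop, ⟨n, hn⟩, hfpf, hcomm⟩ := h
  by_contra hZ
  obtain ⟨z, hz, hz1⟩ : ∃ z ∈ pCore p X, z ≠ 1 := by
    obtain ⟨u, hu⟩ := Subgroup.ne_bot_iff_exists_ne_one.mp hZ
    exact ⟨u, u.2, fun e => hu (Subtype.ext e)⟩
  haveI hKn : (pCore q X).Normal := Cfsg.Agent.Lib.Basic.pCore_normal q
  haveI hZn : (pCore p X).Normal := Cfsg.Agent.Lib.Basic.pCore_normal p
  have hKp : IsPGroup q (pCore q X) := Cfsg.Agent.Lib.Basic.pCore_isPGroup q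
  have hZp : IsPGroup p (pCore p X) := Cfsg.Agent.Lib.Basic.pCore_isPGroup p
  have hdisj : Disjoint (pCore p X) (pCore q X) := IsPGroup.disjoint_of_ne p q hpq _ _ hZp hKp
  have hcm : ∀ y ∈ pCore q X, z * y = y * z := fun y hy =>
    Subgroup.commute_of_normal_of_disjoint _ _ hZn hKn hdisj z y hz hy
  obtain ⟨m, hm⟩ := hZp ⟨z, hz⟩
  have hzm : z ^ p ^ m = 1 := congrArg Subtype.val hm
  have hcop : (p ^ m).Coprime (pCore q X ⊔ A).index := by
    rw [hn]
    exact Nat.Coprime.pow _ _ ((Nat.coprime_primes hpp hqp).mpr hpq)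
  have hzKA := mem_of_pow_eq_one_of_coprime_index (pCore q X ⊔ A) hzm hcop
  rw [← SetLike.mem_coe, Subgroup.normal_mul] at hzKA
  obtain ⟨k, hk, a, ha, hka⟩ := Set.mem_mul.mp hzKA
  have hka' : z = k * a := hka.symm
  have ha1 : a ≠ 1 := by
    rintro rfl
    rw [mul_one] at hka'
    subst hka'
    exact hz1 (Subgroup.disjoint_def.mp hdisj hz hk)
  have hact := acts_of_mul hka' hcm
  have hanorm : ∀ y ∈ pCore q X, a * y * a⁻¹ ∈ pCore q X := fun y hy => hKn.conj_mem y hy a
  have hkt : k⁻¹ ^ Nat.card (pCore q X) = 1 := by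
    have h1 : (⟨k⁻¹, inv_mem hk⟩ : pCore q X) ^ Nat.card (pCore q X) = 1 := pow_card_eq_one'
    exact congrArg Subtype.val h1
  have hcomm' := pow_comm_of_acts hanorm hact hkt
  have haN : a ^ Nat.card A = 1 := by
    have h1 : (⟨a, ha⟩ : A) ^ Nat.card A = 1 := pow_card_eq_one'
    exact congrArg Subtype.val h1
  obtain ⟨j, hj⟩ := hKp.exists_card_eq
  have hcop2 : (Nat.card A).Coprime (Nat.card (pCore q X)) := by
    rw [hj]
    exact hAcop.pow_right j
  exact fpf_contra hK hfpf (pow_mem ha _) (pow_ne_one_of_coprime haN hcop2 ha1) hcomm'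

/-- The key local lemma: in a solvable CN group with `O_p ≠ 1`, a Sylow `p`-subgroup is normal as soon as it lies in
the commutator subgroup or the group has no three-step structure. -/
theorem sylow_normal_of_local {X : Type*} [Group X] [Finite X] [Group.IsSolvable X] (hCN : IsCNGroup X) {p : ℕ}
    [Fact p.Prime] (S : Sylow p X) (hZ : pCore p X ≠ ⊥)
    (h : (S : Subgroup X) ≤ commutator X ∨ ∀ q : ℕ, q.Prime → ¬ IsThreeStepGroup q X) : (S : Subgroup X).Normal := by
  classical
  have hpp : p.Prime := Fact.out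
  by_cases hnil : Group.IsNilpotent X
  · have h1 : Group.IsNilpotent (⊤ : Subgroup X) :=
      Group.isNilpotent_congr Subgroup.topEquiv |>.mpr hnil
    exact sylow_normal_of_le_nilpotent S ⊤ h1 le_top
  by_cases hS : ∀ (r : ℕ) [Fact r.Prime] (T : Sylow r X), (T : Subgroup X).Normal → (T : Subgroup X) = ⊥
  · obtain ⟨q, hq, h3⟩ := threeStep_of_no_normal_sylow hCN hnil hS
    rcases h with h | h
    · haveI := Fact.mk hq
      by_cases hpq : p = q
      · subst hpq
        obtain ⟨hK, A, hA1, hAcyc, hAodd, hAcop, hKAn, hKAtop, ⟨n, hn⟩, hfpf, hcomm⟩ := h3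
        haveI := hKAn
        have hpg : IsPGroup p (X ⧸ (pCore p X ⊔ A)) := by
          apply IsPGroup.of_card (n := n)
          rw [← Subgroup.index_eq_card, hn]
        have hle := sylow_le_of_nilpotent_quotient S h (pCore p X ⊔ A) hpg.isNilpotent
        have h1 : (pCore p X ⊔ A).index ∣ (S : Subgroup X).index := Subgroup.index_dvd_of_le hle
        have h2 : ¬ p ∣ (S : Subgroup X).index := S.not_dvd_index
        have hn0 : n = 0 := by
          by_contra hne
          apply h2
          refine Dvd.dvd.trans ?_ h1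
          rw [hn]
          exact dvd_pow_self p hne
        rw [hn0, pow_zero, Subgroup.index_eq_one] at hn
        exact absurd hn hKAtop
      · exact absurd (threeStep_pCore_eq_bot hpq h3) hZ
    · exact absurd h3 (h q hq)
  · push Not at hS
    obtain ⟨r, hr, T, hTn, hT1⟩ := hS
    obtain ⟨hH1, hHtop, ⟨E, hE, hEf, hfpf⟩, hQnil⟩ := Cfsg.Agent.S1474.result hCN hnil r T hT1 hTn
    have hHnil := fittingHall_isNilpotent X
    have hHc := fittingHall_coprime X
    have hle : (S : Subgroup X) ≤ fittingHall X := by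
      rcases h with h | h
      · exact sylow_le_of_nilpotent_quotient S h _ hQnil
      · by_cases hp : p ∣ Nat.card (fittingHall X)
        · intro s hs
          obtain ⟨k, hk⟩ := S.isPGroup' ⟨s, hs⟩
          have h3 : s ^ p ^ k = 1 := congrArg Subtype.val hk
          refine mem_of_pow_eq_one_of_coprime_index _ h3 (Nat.Coprime.pow_left _ ?_)
          exact Nat.Coprime.coprime_dvd_left hp hHc
        · exfalso
          obtain ⟨z, hz, hz1⟩ : ∃ z ∈ pCore p X, z ≠ 1 := by
            obtain ⟨u, hu⟩ := Subgroup.ne_bot_iff_exists_ne_one.mp hZ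
            exact ⟨u, u.2, fun e => hu (Subtype.ext e)⟩
          haveI hZn : (pCore p X).Normal := Cfsg.Agent.Lib.Basic.pCore_normal p
          have hZp : IsPGroup p (pCore p X) := Cfsg.Agent.Lib.Basic.pCore_isPGroup p
          have hcop : (Nat.card (pCore p X)).Coprime (Nat.card (fittingHall X)) := by
            obtain ⟨j, hj⟩ := hZp.exists_card_eq
            rw [hj]
            exact Nat.Coprime.pow_left _ ((Nat.Prime.coprime_iff_not_dvd hpp).mpr hp)
          have hdisj : Disjoint (pCore p X) (fittingHall X) := disjoint_of_card_coprime hcop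
          have hcm : ∀ y ∈ fittingHall X, z * y = y * z := fun y hy =>
            Subgroup.commute_of_normal_of_disjoint _ _ hZn inferInstance hdisj z y hz hy
          obtain ⟨⟨⟨f, hf⟩, ⟨e, he⟩⟩, hfe⟩ := hE.2 z
          have hfe' : z = f * e := hfe.symm
          have he1 : e ≠ 1 := by
            rintro rfl
            rw [mul_one] at hfe'
            subst hfe'
            exact hz1 (Subgroup.disjoint_def.mp hdisj hz hf)
          have hact := acts_of_mul hfe' hcm
          have hft : f⁻¹ ^ Nat.card (fittingHall X) = 1 := by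
            have h1 : (⟨f⁻¹, inv_mem hf⟩ : fittingHall X) ^ Nat.card (fittingHall X) = 1 := pow_card_eq_one'
            exact congrArg Subtype.val h1
          have hcomm' := pow_comm_of_acts (fun y hy => (inferInstance : (fittingHall X).Normal).conj_mem y hy e) hact hft
          have heN : e ^ Nat.card E = 1 := by
            have h1 : (⟨e, he⟩ : E) ^ Nat.card E = 1 := pow_card_eq_one'
            exact congrArg Subtype.val h1
          have hEcard : Nat.card E = (fittingHall X).index := by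
            have h4 := hE.card_mul
            have h5 := (fittingHall X).card_mul_index
            have h6 : 0 < Nat.card (fittingHall X) := Nat.card_pos
            exact Nat.eq_of_mul_eq_mul_left h6 (h4.trans h5.symm)
          have hcop2 : (Nat.card E).Coprime (Nat.card (fittingHall X)) := by
            rw [hEcard]
            exact hHc.symm
          exact fpf_contra hH1 hfpf (pow_mem he _) (pow_ne_one_of_coprime heN hcop2 he1) hcomm'
    exact sylow_normal_of_le_nilpotent S _ hHnil hle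

end Cfsg.Agent.Lib.CNThm
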