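import Cfsg.Agent.Lib.CNThm.A
import Cfsg.Agent.Lib.CNThm.B

/-!
CN-theorem for odd order: control of fusion, no three-step subgroups, Sylow subgroups are TI.
-/

set_option autoImplicit false
set_option linter.unusedSectionVars false
set_option linter.style.haveILetI false

namespace Cfsg.Agent.Lib.CNThm

open Subgroup Cfsg Cfsg.Agent.Lib.OddLocal
open scoped commutatorElement

universe u

variable {G : Type u} [Group G] [Finite G]

theorem ms_simple (hG : IsMinSimpleOddOrder G) : IsSimpleGroup G := hG.2.1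

theorem ms_nontrivial (hG : IsMinSimpleOddOrder G) : Nontrivial G := (ms_simple hG).toNontrivial

theorem ms_commutator (hG : IsMinSimpleOddOrder G) : commutator G = ⊤ := by
  haveI := ms_simple hG
  rcases IsSimpleGroup.eq_bot_or_eq_top_of_normal (commutator G) inferInstance with h | h
  · exfalso
    apply hG.2.2.1
    refine ⟨⟨fun a b => ?_⟩⟩
    have h1 : ⁅a, b⁆ ∈ commutator G := by
      rw [commutator_def]
      exact Subgroup.commutator_mem_commutator (mem_top a) (mem_top b)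
    rw [h, Subgroup.mem_bot, commutatorElement_eq_one_iff_mul_comm] at h1
    exact h1
  · exact h

theorem ms_pGroup_ne_top (hG : IsMinSimpleOddOrder G) {p : ℕ} [Fact p.Prime] {U : Subgroup G} (hU : IsPGroup p U) :
    U ≠ ⊤ := by
  rintro rfl
  haveI := ms_simple hG
  haveI := ms_nontrivial hG
  have hp : IsPGroup p G := fun g => by
    obtain ⟨k, hk⟩ := hU ⟨g, mem_top g⟩
    exact ⟨k, congrArg Subtype.val hk⟩
  haveI : Nontrivial (center G) := hp.center_nontrivial
  rcases IsSimpleGroup.eq_bot_or_eq_top_of_normal (center G) inferInstance with h | h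
  · exact (Subgroup.nontrivial_iff_ne_bot _).mp inferInstance h
  · apply hG.2.2.1
    refine ⟨⟨fun a b => ?_⟩⟩
    have h1 : a ∈ center G := by rw [h]; trivial
    exact (Subgroup.mem_center_iff.mp h1 b).symm

theorem ms_normalizer_ne_top (hG : IsMinSimpleOddOrder G) {U : Subgroup G} (h1 : U ≠ ⊥) (h2 : U ≠ ⊤) :
    normalizer (U : Set G) ≠ ⊤ := by
  haveI := ms_simple hG
  intro h
  rw [Subgroup.normalizer_eq_top_iff] at h
  rcases IsSimpleGroup.eq_bot_or_eq_top_of_normal U h with h3 | h3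
  · exact h1 h3
  · exact h2 h3

/-- Fusion in a nontrivial Sylow subgroup is controlled by its normalizer. -/
theorem control_step (hG : IsMinSimpleOddOrder G) (hCN : IsCNGroup G) {p : ℕ} [Fact p.Prime] (S : Sylow p G)
    (hS1 : (S : Subgroup G) ≠ ⊥) (A : Set G) (hA : A ⊆ (S : Subgroup G)) :
    ControlsStrongFusionOf (normalizer ((S : Subgroup G) : Set G)) (S : Subgroup G) A := by
  classical
  have hpp : p.Prime := Fact.out
  have hp2 : p ≠ 2 := by
    rintro rfl
    obtain ⟨x, hx⟩ := Subgroup.ne_bot_iff_exists_ne_one.mp hS1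
    have h1 : (x : G) ≠ 1 := fun e => hx (Subtype.ext e)
    haveI : Nontrivial (S : Subgroup G) := (Subgroup.nontrivial_iff_ne_bot _).mpr hS1
    obtain ⟨k, hk⟩ := S.isPGroup'.exists_card_eq
    have h2 : 2 ∣ Nat.card (S : Subgroup G) := by
      have hk0 : k ≠ 0 := by
        rintro rfl
        rw [pow_zero] at hk
        exact Finite.one_lt_card.ne' hk
      rw [hk]
      exact dvd_pow_self 2 hk0
    have h3 : 2 ∣ Nat.card G := h2.trans (Subgroup.card_subgroup_dvd_card _)
    exact (Nat.not_even_iff_odd.mpr hG.1) (even_iff_two_dvd.mpr h3)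
  have hst := isNormalizerPStable_of_odd hG.1 hp2 (p := p)
  have hc : ∀ U : Subgroup G, U ≤ (S : Subgroup G) → U ≠ ⊥ → IsPConstrained p ↥(normalizer (U : Set G)) := by
    intro U hU hU1
    have hUp : IsPGroup p U := S.isPGroup'.to_le hU
    have hN := ms_normalizer_ne_top hG hU1 (ms_pGroup_ne_top hG hUp)
    exact Cfsg.Agent.Lib.Components.isPConstrained_of_solvable (hG.2.2.2 _ hN)
  have hD : IsStronglyClosed (S : Subgroup G) (S : Subgroup G) := ⟨le_rfl, fun x _ g hg => hg⟩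
  have ctl := (Cfsg.Agent.S3080.result hp2 S (S : Subgroup G) hD hst hc).1
  set Z : Subgroup G := centerThompsonAOf (S : Subgroup G) with hZ
  set M : Subgroup G := normalizer (Z : Set G) with hM
  have hZ1 : Z ≠ ⊥ := Cfsg.Agent.Lib.PLocal.centerThompsonAOf_ne_bot S.isPGroup' hS1
  have hZS : Z ≤ (S : Subgroup G) := Cfsg.Agent.Lib.PLocal.centerThompsonAOf_le _
  have hZp : IsPGroup p Z := S.isPGroup'.to_le hZS
  have hMtop : M ≠ ⊤ := ms_normalizer_ne_top hG hZ1 (ms_pGroup_ne_top hG hZp)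
  haveI hMs : Group.IsSolvable M := hG.2.2.2 M hMtop
  have hSM : (S : Subgroup G) ≤ M :=
    Subgroup.le_normalizer.trans (Cfsg.Agent.Lib.PLocal.normalizer_le_normalizer_centerThompsonAOf _)
  have hctrl : ∀ x ∈ (S : Subgroup G), ∀ u : G, u * x * u⁻¹ ∈ (S : Subgroup G) →
      ∃ n ∈ M, n * x * n⁻¹ = u * x * u⁻¹ := by
    intro x hx u hu
    have h1 := (ctl {x} (Set.singleton_subset_iff.mpr hx)).2 u (by
      rintro _ ⟨a, rfl, rfl⟩
      exact hu)
    obtain ⟨n, hn, hne⟩ := h1
    exact ⟨n, hn, (hne x rfl).symm⟩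
  have hf := Cfsg.Agent.Lib.Transfer.commutator_inf_eq_of_control S M hctrl hSM
  rw [ms_commutator hG, top_inf_eq] at hf
  have hSc : (S : Subgroup G) ≤ ⁅M, M⁆ := by
    rw [hf]
    exact inf_le_left
  set S' : Sylow p M := S.subtype hSM with hS'
  have hS'c : ((S' : Sylow p M) : Subgroup M) ≤ commutator M := by
    intro s hs
    have hs' : (s : G) ∈ (S : Subgroup G) := by
      have : s ∈ (S : Subgroup G).subgroupOf M := by
        rw [← Sylow.coe_subtype]
        exact hs
      exact this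
    have h1 := hSc hs'
    rw [← Subgroup.map_subtype_commutator] at h1
    obtain ⟨y, hy, hye⟩ := h1
    have : y = s := Subtype.ext hye
    rw [← this]
    exact hy
  have hZ' : pCore p M ≠ ⊥ := by
    intro hbot
    have hn : (Z.subgroupOf M).Normal := Subgroup.normal_in_normalizer
    have h1 : Z.subgroupOf M ≤ pCore p M := Cfsg.Agent.Lib.Basic.le_pCore hn hZp.comap_subtype
    rw [hbot, le_bot_iff, Subgroup.subgroupOf_eq_bot] at h1
    apply hZ1
    have hZM : Z ≤ M := Subgroup.le_normalizer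
    exact le_bot_iff.mp (by
      intro z hz
      exact h1.le_bot ⟨hz, hZM hz⟩)
  have hnorm := sylow_normal_of_local (isCN_subgroup hCN M) S' hZ' (Or.inl hS'c)
  have hMN : M ≤ normalizer ((S : Subgroup G) : Set G) := by
    intro m hm
    rw [Subgroup.mem_normalizer_iff]
    intro s
    have hmem : ∀ t : G, t ∈ (S : Subgroup G) → ∀ n : M, (n : G) * t * (n : G)⁻¹ ∈ (S : Subgroup G) := by
      intro t ht n
      have h1 : (⟨t, hSM ht⟩ : M) ∈ ((S' : Sylow p M) : Subgroup M) := by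
        rw [hS', Sylow.coe_subtype]
        exact ht
      have h2 := hnorm.conj_mem _ h1 n
      rw [hS', Sylow.coe_subtype] at h2
      exact h2
    constructor
    · intro hs
      exact hmem s hs ⟨m, hm⟩
    · intro hs
      have h1 := hmem _ hs ⟨m, hm⟩⁻¹
      simpa [mul_assoc] using h1
  refine ⟨hA, fun g hg => ?_⟩
  obtain ⟨x, hx, hxe⟩ := (ctl A hA).2 g hg
  exact ⟨x, hMN hx, hxe⟩

/-- No subgroup is a three-step group for a prime. -/
theorem no_threeStep (hG : IsMinSimpleOddOrder G) (hCN : IsCNGroup G) {p : ℕ} [Fact p.Prime] (H : Subgroup G)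
    (h : IsThreeStepGroup p H) : False := by
  classical
  have hpp : p.Prime := Fact.out
  obtain ⟨hK, A, hA1, hAcyc, hAodd, hAcop, hKAn, hKAtop, ⟨n, hn⟩, hfpf, hcomm⟩ := h
  set K : Subgroup H := pCore p H with hKdef
  haveI hKn : K.Normal := Cfsg.Agent.Lib.Basic.pCore_normal p
  have hKp : IsPGroup p K := Cfsg.Agent.Lib.Basic.pCore_isPGroup p
  haveI := hKAn
  obtain ⟨S₀⟩ : Nonempty (Sylow p H) := inferInstance
  obtain ⟨x, hxS₀, hxKA⟩ : ∃ x ∈ (S₀ : Subgroup H), x ∉ K ⊔ A := by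
    by_contra hcon
    push Not at hcon
    have hle : (S₀ : Subgroup H) ≤ K ⊔ A := hcon
    have h1 : (K ⊔ A).index ∣ (S₀ : Subgroup H).index := Subgroup.index_dvd_of_le hle
    have h2 : ¬ p ∣ (S₀ : Subgroup H).index := S₀.not_dvd_index
    have hn0 : n = 0 := by
      by_contra hne
      apply h2
      refine Dvd.dvd.trans ?_ h1
      rw [hn]
      exact dvd_pow_self p hne
    rw [hn0, pow_zero, Subgroup.index_eq_one] at hn
    exact hKAtop hn
  obtain ⟨S, hS⟩ : ∃ S : Sylow p G, (S₀ : Subgroup H).map H.subtype ≤ S :=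
    (S₀.isPGroup'.map H.subtype).exists_le_sylow
  have hxS : (x : G) ∈ (S : Subgroup G) := hS ⟨x, hxS₀, rfl⟩
  have hK'S : K.map H.subtype ≤ (S : Subgroup G) := by
    rintro _ ⟨y, hy, rfl⟩
    exact hS ⟨y, Cfsg.Agent.Lib.Basic.pCore_le_sylow S₀ hy, rfl⟩
  set K' : Subgroup G := K.map H.subtype with hK'
  have hK'1 : K' ≠ ⊥ := by
    intro hb
    apply hK
    rw [hK', Subgroup.map_eq_bot_iff_of_injective _ H.subtype_injective] at hb
    exact hb
  have hS1 : (S : Subgroup G) ≠ ⊥ := by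
    intro hb
    apply hK'1
    rw [eq_bot_iff, ← hb]
    exact hK'S
  obtain ⟨a, ha, ha1⟩ : ∃ a ∈ A, a ≠ 1 := by
    obtain ⟨u, hu⟩ := Subgroup.ne_bot_iff_exists_ne_one.mp hA1
    exact ⟨u, u.2, fun e => hu (Subtype.ext e)⟩
  have hctl := control_step hG hCN S hS1 (K' : Set G) hK'S
  have hnorm : ∀ z : H, ∀ y ∈ K', (z : G) * y * (z : G)⁻¹ ∈ K' := by
    rintro z _ ⟨y, hy, rfl⟩
    exact ⟨z * y * z⁻¹, hKn.conj_mem y hy z, rfl⟩
  obtain ⟨m, hmN, hm⟩ := hctl.2 (a : G) (by
    rintro _ ⟨y, hy, rfl⟩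
    exact hK'S (hnorm a y hy))
  have hminv : ∀ y ∈ K', m⁻¹ * y * m = (a : G)⁻¹ * y * (a : G) := by
    intro y hy
    have h1 : (a : G)⁻¹ * y * (a : G) ∈ K' := by
      have := hnorm a⁻¹ y hy
      simpa using this
    have h2 := hm _ h1
    have h3 : (a : G) * ((a : G)⁻¹ * y * (a : G)) * (a : G)⁻¹ = y := by group
    rw [h3] at h2
    calc m⁻¹ * y * m = m⁻¹ * (m * ((a : G)⁻¹ * y * (a : G)) * m⁻¹) * m := by rw [← h2]
      _ = (a : G)⁻¹ * y * (a : G) := by group
  set c : H := x * a * x⁻¹ * a⁻¹ with hc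
  have hcK : c ∉ K := hcomm x hxKA a ha ha1
  have hcKA : c ∈ K ⊔ A :=
    mul_mem (hKAn.conj_mem a (Subgroup.mem_sup_right ha) x) (inv_mem (Subgroup.mem_sup_right ha))
  rw [← SetLike.mem_coe, Subgroup.normal_mul] at hcKA
  obtain ⟨k, hk, a', ha', hka⟩ := Set.mem_mul.mp hcKA
  have hka' : c = k * a' := hka.symm
  have ha'1 : a' ≠ 1 := by
    rintro rfl
    rw [mul_one] at hka'
    exact hcK (hka' ▸ hk)
  set s : G := (x : G) * m * (x : G)⁻¹ * m⁻¹ with hs
  have hsS : s ∈ (S : Subgroup G) := by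
    have h1 : m * (x : G)⁻¹ * m⁻¹ ∈ (S : Subgroup G) :=
      (Subgroup.mem_normalizer_iff.mp hmN _).mp (inv_mem hxS)
    have h2 : s = (x : G) * (m * (x : G)⁻¹ * m⁻¹) := by rw [hs]; group
    rw [h2]
    exact mul_mem hxS h1
  have hact : ∀ y ∈ K', (c : G) * y * (c : G)⁻¹ = s * y * s⁻¹ := by
    intro y hy
    have e1 := hminv y hy
    have hy₁ : m⁻¹ * y * m ∈ K' := by
      rw [e1]
      have := hnorm a⁻¹ y hy
      simpa using this
    have hy₂ : (x : G)⁻¹ * (m⁻¹ * y * m) * (x : G) ∈ K' := by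
      have := hnorm x⁻¹ _ hy₁
      simpa using this
    have e2 := hm _ hy₂
    have hce : (c : G) = (x : G) * (a : G) * (x : G)⁻¹ * (a : G)⁻¹ := by
      rw [hc]; rfl
    calc (c : G) * y * (c : G)⁻¹
        = (x : G) * ((a : G) * ((x : G)⁻¹ * ((a : G)⁻¹ * y * (a : G)) * (x : G)) * (a : G)⁻¹) * (x : G)⁻¹ := by
          rw [hce]; group
      _ = (x : G) * ((a : G) * ((x : G)⁻¹ * (m⁻¹ * y * m) * (x : G)) * (a : G)⁻¹) * (x : G)⁻¹ := by rw [e1]
      _ = (x : G) * (m * ((x : G)⁻¹ * (m⁻¹ * y * m) * (x : G)) * m⁻¹) * (x : G)⁻¹ := by rw [e2]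
      _ = s * y * s⁻¹ := by rw [hs]; group
  have hact' : ∀ y ∈ K', (a' : G) * y * (a' : G)⁻¹ = ((k : G)⁻¹ * s) * y * ((k : G)⁻¹ * s)⁻¹ := by
    intro y hy
    have h1 : (a' : G) = (k : G)⁻¹ * (c : G) := by
      rw [hka']
      simp
    rw [h1]
    have h2 := hact y hy
    calc (k : G)⁻¹ * (c : G) * y * ((k : G)⁻¹ * (c : G))⁻¹ = (k : G)⁻¹ * ((c : G) * y * (c : G)⁻¹) * (k : G) := by group
      _ = (k : G)⁻¹ * (s * y * s⁻¹) * (k : G) := by rw [h2]
      _ = _ := by group
  have huS : (k : G)⁻¹ * s ∈ (S : Subgroup G) := by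
    refine mul_mem (inv_mem ?_) hsS
    exact hK'S ⟨k, hk, rfl⟩
  have hut : ((k : G)⁻¹ * s) ^ Nat.card (S : Subgroup G) = 1 := by
    have h1 : (⟨_, huS⟩ : (S : Subgroup G)) ^ Nat.card (S : Subgroup G) = 1 := pow_card_eq_one'
    exact congrArg Subtype.val h1
  have hcomm' := pow_comm_of_acts (hnorm a') hact' hut
  have haN : a' ^ Nat.card A = 1 := by
    have h1 : (⟨a', ha'⟩ : A) ^ Nat.card A = 1 := pow_card_eq_one'
    exact congrArg Subtype.val h1
  obtain ⟨j, hj⟩ := S.isPGroup'.exists_card_eq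
  have hcop2 : (Nat.card A).Coprime (Nat.card (S : Subgroup G)) := by
    rw [hj]
    exact hAcop.pow_right j
  refine fpf_contra hK hfpf (pow_mem ha' _) (pow_ne_one_of_coprime haN hcop2 ha'1) ?_
  intro y hy
  apply Subtype.ext
  have := hcomm' (y : G) ⟨y, hy, rfl⟩
  simpa using this

theorem card_lt_of_lt {A B : Subgroup G} (h : A < B) : Nat.card A < Nat.card B := by
  have h1 := Set.ncard_lt_ncard (SetLike.coe_ssubset_coe.mpr h) (Set.toFinite _)
  rw [← Nat.card_coe_set_eq, ← Nat.card_coe_set_eq] at h1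
  exact h1

/-- Sylow subgroups are TI. -/
theorem sylow_ti_aux (hG : IsMinSimpleOddOrder G) (hCN : IsCNGroup G) {p : ℕ} [Fact p.Prime] (n : ℕ) :
    ∀ S S' : Sylow p G, S ≠ S' → ((S : Subgroup G) ⊓ (S' : Subgroup G)) ≠ ⊥ →
      Nat.card G - Nat.card ↥((S : Subgroup G) ⊓ (S' : Subgroup G)) = n → False := by
  classical
  induction n using Nat.strong_induction_on with
  | _ n ih =>
    intro S S' hne hD1 hn
    set D : Subgroup G := (S : Subgroup G) ⊓ (S' : Subgroup G) with hD
    have hDS : D < (S : Subgroup G) := by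
      refine lt_of_le_of_ne inf_le_left ?_
      intro e
      have h1 : (S : Subgroup G) ≤ S' := e ▸ inf_le_right
      exact hne (Sylow.ext (S.is_maximal' S'.isPGroup' h1).symm)
    have hDS' : D < (S' : Subgroup G) := by
      refine lt_of_le_of_ne inf_le_right ?_
      intro e
      have h1 : (S' : Subgroup G) ≤ S := e ▸ inf_le_left
      exact hne (Sylow.ext (S'.is_maximal' S.isPGroup' h1))
    have hDp : IsPGroup p D := S.isPGroup'.to_le inf_le_left
    set N : Subgroup G := normalizer (D : Set G) with hN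
    have hNtop : N ≠ ⊤ := ms_normalizer_ne_top hG hD1 (ms_pGroup_ne_top hG hDp)
    haveI hNs : Group.IsSolvable N := hG.2.2.2 N hNtop
    have hDN : D ≤ N := Subgroup.le_normalizer
    have hZ' : pCore p N ≠ ⊥ := by
      intro hbot
      have hn : (D.subgroupOf N).Normal := Subgroup.normal_in_normalizer
      have h1 : D.subgroupOf N ≤ pCore p N := Cfsg.Agent.Lib.Basic.le_pCore hn hDp.comap_subtype
      rw [hbot, le_bot_iff, Subgroup.subgroupOf_eq_bot] at h1
      apply hD1
      exact le_bot_iff.mp (by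
        intro z hz
        exact h1.le_bot ⟨hz, hDN hz⟩)
    obtain ⟨T₀⟩ : Nonempty (Sylow p N) := inferInstance
    have hT₀n := sylow_normal_of_local (isCN_subgroup hCN N) T₀ hZ' (Or.inr (fun q hq h3 => by
      haveI := Fact.mk hq
      exact no_threeStep hG hCN N h3))
    obtain ⟨R, hR⟩ : ∃ R : Sylow p G, (T₀ : Subgroup N).map N.subtype ≤ R :=
      (T₀.isPGroup'.map N.subtype).exists_le_sylow
    have hkey : ∀ W : Sylow p G, (W : Subgroup G) ⊓ N ≤ R := by
      intro W t ht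
      have hp : IsPGroup p ((W : Subgroup G).subgroupOf N) := W.isPGroup'.comap_subtype
      obtain ⟨T₁, hT₁⟩ := hp.exists_le_sylow
      have h1 : (T₀ : Subgroup N) ≤ T₁ := Cfsg.Agent.Lib.Basic.normal_pGroup_le_sylow hT₀n T₀.isPGroup' T₁
      have h2 : (T₁ : Subgroup N) = T₀ := T₀.is_maximal' T₁.isPGroup' h1
      have h3 : (⟨t, ht.2⟩ : N) ∈ (T₀ : Subgroup N) := by
        rw [← h2]
        apply hT₁
        rw [Subgroup.mem_subgroupOf]
        exact ht.1
      exact hR ⟨_, h3, rfl⟩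
    have hbigger : ∀ W : Sylow p G, D < (W : Subgroup G) → D < (W : Subgroup G) ⊓ (R : Subgroup G) := by
      intro W hW
      have hle : D ≤ (W : Subgroup G) ⊓ (R : Subgroup G) :=
        le_inf hW.le (fun d hd => hkey W ⟨hW.le hd, hDN hd⟩)
      obtain ⟨t, htW, htD, htN⟩ := Cfsg.Agent.Lib.PLocal.exists_mem_normalizer_of_lt (p := p) W.isPGroup' hW
      refine lt_of_le_of_ne hle ?_
      intro e
      apply htD
      rw [e]
      exact ⟨htW, hkey W ⟨htW, htN⟩⟩
    have hcard : ∀ W : Sylow p G, D < (W : Subgroup G) → W ≠ R → False := by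
      intro W hW hWR
      have h1 := hbigger W hW
      have hlt : Nat.card D < Nat.card ↥((W : Subgroup G) ⊓ (R : Subgroup G)) := card_lt_of_lt h1
      have hle : Nat.card ↥((W : Subgroup G) ⊓ (R : Subgroup G)) ≤ Nat.card G := Subgroup.card_le_card_group _
      refine ih (Nat.card G - Nat.card ↥((W : Subgroup G) ⊓ (R : Subgroup G))) ?_ W R hWR ?_ rfl
      · omega
      · intro hb
        apply hD1
        rw [eq_bot_iff, ← hb]
        exact h1.le
    by_cases hSR : S = R
    · exact hcard S' hDS' (fun e => hne (hSR.trans e.symm))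
    · exact hcard S hDS hSR

theorem sylow_ti (hG : IsMinSimpleOddOrder G) (hCN : IsCNGroup G) {p : ℕ} [Fact p.Prime] (S S' : Sylow p G)
    (hne : S ≠ S') : (S : Subgroup G) ⊓ (S' : Subgroup G) = ⊥ := by
  by_contra h
  exact sylow_ti_aux hG hCN _ S S' hne h rfl

end Cfsg.Agent.Lib.CNThm
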