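import Cfsg.Agent.Lib.CNThm.C
import Cfsg.Agent.S0035
import Cfsg.Agent.Lib.OddLocal.CN
import Cfsg.Agent.Lib.OddChar.PartG

/-!
CN-theorem for odd order: maximal nilpotent subgroups and the final contradiction.
-/

set_option autoImplicit false
set_option linter.unusedSectionVars false
set_option linter.style.haveILetI false

namespace Cfsg.Agent.Lib.CNThm

open Subgroup Cfsg Cfsg.Agent.Lib.OddLocal
open scoped commutatorElement

universe u

variable {G : Type u} [Group G] [Finite G]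

theorem maxNil_exists (L : Subgroup G) (hL : Group.IsNilpotent L) : ∃ H, IsMaxNil H ∧ L ≤ H := by
  obtain ⟨H, hLH, hH⟩ := Set.Finite.exists_le_maximal (s := {X : Subgroup G | Group.IsNilpotent X})
    (Set.toFinite _) hL
  exact ⟨H, ⟨hH.prop, fun L' hL' hle => le_antisymm (hH.le_of_ge hL' hle) hle⟩, hLH⟩

theorem isNilpotent_zpowers (x : G) : Group.IsNilpotent (zpowers x) := by
  letI : CommGroup (zpowers x) := IsCyclic.commGroup
  exact CommGroup.isNilpotent

theorem maxNil_mem (x : G) : ∃ H, IsMaxNil H ∧ x ∈ H := by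
  obtain ⟨H, hH, hle⟩ := maxNil_exists (zpowers x) (isNilpotent_zpowers x)
  exact ⟨H, hH, hle (mem_zpowers x)⟩

theorem maxNil_ne_bot [Nontrivial G] {H : Subgroup G} (hH : IsMaxNil H) : H ≠ ⊥ := by
  rintro rfl
  obtain ⟨x, hx⟩ := exists_ne (1 : G)
  have h1 := hH.2 (zpowers x) (isNilpotent_zpowers x) bot_le
  have h2 : x ∈ (⊥ : Subgroup G) := h1 ▸ mem_zpowers x
  exact hx (Subgroup.mem_bot.mp h2)

theorem index_conj_map (H : Subgroup G) (g : G) : (H.map (MulAut.conj g).toMonoidHom).index = H.index := by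
  have h1 := (H.map (MulAut.conj g).toMonoidHom).card_mul_index
  have h2 := H.card_mul_index
  rw [card_conj_map] at h1
  exact Nat.eq_of_mul_eq_mul_left Nat.card_pos (h1.trans h2.symm)

theorem maxNil_ti (hG : IsMinSimpleOddOrder G) (hCN : IsCNGroup G) {H : Subgroup G} (hH : IsMaxNil H) (g : G)
    (hg : H.map (MulAut.conj g).toMonoidHom ≠ H) : H ⊓ H.map (MulAut.conj g).toMonoidHom = ⊥ := by
  classical
  haveI := ms_nontrivial hG
  by_cases hpp : IsPrimePow (Nat.card H)
  · obtain ⟨r, k, hr, hk, hc⟩ := hpp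
    haveI : Fact r.Prime := ⟨hr.nat_prime⟩
    have hHp : IsPGroup r H := IsPGroup.of_card hc.symm
    have hidx : ¬ r ∣ H.index := by
      intro hd
      have h1 : r ∣ Nat.card H := by
        rw [← hc]
        exact dvd_pow_self r hk.ne'
      have h2 := Nat.dvd_gcd h1 hd
      rw [(hH.coprime_index hCN).gcd_eq_one] at h2
      exact hr.nat_prime.one_lt.ne' (Nat.dvd_one.mp h2)
    have hH' : IsPGroup r (H.map (MulAut.conj g).toMonoidHom) := hHp.map _
    have hidx' : ¬ r ∣ (H.map (MulAut.conj g).toMonoidHom).index := by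
      rw [index_conj_map]
      exact hidx
    have hne : hHp.toSylow hidx ≠ hH'.toSylow hidx' := by
      intro e
      apply hg
      have := congrArg (fun T : Sylow r G => (T : Subgroup G)) e
      simpa using this.symm
    have := sylow_ti hG hCN _ _ hne
    simpa using this
  · by_contra hcon
    have hne : Nat.card H ≠ 1 := fun e => maxNil_ne_bot hH (Subgroup.eq_bot_of_card_eq H e)
    exact hg (hH.eq_of_inf_ne_bot hCN (hH.conj g) hpp hne (card_conj_map H g) hcon).symm

theorem maxNil_centralizer_le (hG : IsMinSimpleOddOrder G) (hCN : IsCNGroup G) {H : Subgroup G} (hH : IsMaxNil H)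
    {x : G} (hx : x ∈ H) (hx1 : x ≠ 1) : centralizer ({x} : Set G) ≤ H :=
  hH.centralizer_le_of_ti hCN (maxNil_ti hG hCN hH) hx hx1

theorem maxNil_eq (hG : IsMinSimpleOddOrder G) (hCN : IsCNGroup G) {H H' : Subgroup G} (hH : IsMaxNil H)
    (hH' : IsMaxNil H') (hinf : H ⊓ H' ≠ ⊥) : H = H' := by
  haveI := ms_nontrivial hG
  obtain ⟨x, hx⟩ := Subgroup.ne_bot_iff_exists_ne_one.mp hinf
  have hx1 : (x : G) ≠ 1 := fun e => hx (Subtype.ext e)
  have hxH := (Subgroup.mem_inf.mp x.2).1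
  have hxH' := (Subgroup.mem_inf.mp x.2).2
  obtain ⟨z, hzH, hz1, hzc⟩ := exists_central_of_normal le_rfl (maxNil_ne_bot hH) hH.1 Subgroup.le_normalizer
  have hzH' : z ∈ H' := maxNil_centralizer_le hG hCN hH' hxH' hx1
    (mem_centralizer_singleton'.mpr (hzc x hxH).symm)
  have hle : H ≤ H' := fun y hy =>
    maxNil_centralizer_le hG hCN hH' hzH' hz1 (mem_centralizer_singleton'.mpr (hzc y hy))
  exact (hH.2 H' hH'.1 hle).symm

theorem ms_maxNil_ne_top (hG : IsMinSimpleOddOrder G) {H : Subgroup G} (hH : IsMaxNil H) : H ≠ ⊤ := by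
  rintro rfl
  haveI := ms_nontrivial hG
  have h1 : Group.IsNilpotent G := (Group.isNilpotent_congr Subgroup.topEquiv).mp hH.1
  have h3 := IsSolvable.commutator_lt_top_of_nontrivial G
  rw [ms_commutator hG] at h3
  exact lt_irrefl _ h3

theorem maxNil_normalizer_ne (hG : IsMinSimpleOddOrder G) (hCN : IsCNGroup G) {H : Subgroup G} (hH : IsMaxNil H) :
    normalizer (H : Set G) ≠ H := by
  classical
  haveI := ms_nontrivial hG
  haveI := ms_simple hG
  intro hN
  have hFC : IsFrobeniusComplement H := by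
    refine ⟨maxNil_ne_bot hH, ms_maxNil_ne_top hG hH, fun g hg => ?_⟩
    apply maxNil_ti hG hCN hH g
    intro e
    apply hg
    rw [← hN]
    exact Cfsg.Agent.Lib.Transfer.map_conj_eq_iff.mp e
  obtain ⟨N, -, hNn, hNc⟩ := Cfsg.Agent.S0035.result H hFC
  have hcard := hNc.card_mul
  rcases IsSimpleGroup.eq_bot_or_eq_top_of_normal N hNn with rfl | rfl
  · rw [Subgroup.card_bot, one_mul] at hcard
    apply ms_maxNil_ne_top hG hH
    exact Subgroup.eq_top_of_card_eq H hcard
  · rw [Subgroup.card_top] at hcard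
    apply maxNil_ne_bot hH
    apply Subgroup.eq_bot_of_card_eq
    exact Nat.eq_of_mul_eq_mul_left Nat.card_pos (hcard.trans (mul_one _).symm)

theorem maxNil_conj_of_prime (hG : IsMinSimpleOddOrder G) (hCN : IsCNGroup G) {H H' : Subgroup G} (hH : IsMaxNil H)
    (hH' : IsMaxNil H') {r : ℕ} [Fact r.Prime] (h1 : r ∣ Nat.card H) (h2 : r ∣ Nat.card H') :
    ∃ g : G, H.map (MulAut.conj g).toMonoidHom = H' := by
  classical
  have hrp : r.Prime := Fact.out
  obtain ⟨x, hx⟩ := exists_prime_orderOf_dvd_card' r h1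
  obtain ⟨T₀⟩ : Nonempty (Sylow r H') := inferInstance
  have hT₁ : IsPGroup r ((T₀ : Subgroup H').map H'.subtype) := T₀.isPGroup'.map _
  have hidx : ¬ r ∣ ((T₀ : Subgroup H').map H'.subtype).index := by
    rw [Subgroup.index_map_subtype, hrp.dvd_mul]
    rintro (hd | hd)
    · exact T₀.not_dvd_index hd
    · have h3 := Nat.dvd_gcd h2 hd
      rw [(hH'.coprime_index hCN).gcd_eq_one] at h3
      exact hrp.one_lt.ne' (Nat.dvd_one.mp h3)
  have hxo : orderOf (x : G) = r := by rw [← hx]; exact Subgroup.orderOf_coe x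
  have hxp : IsPGroup r (zpowers (x : G)) :=
    Cfsg.Agent.Lib.PGroups.isPGroup_zpowers_iff.mpr ⟨1, by rw [pow_one, hxo]⟩
  obtain ⟨W, hW⟩ := hxp.exists_le_sylow
  obtain ⟨g, hg⟩ := MulAction.exists_smul_eq G W (hT₁.toSylow hidx)
  refine ⟨g, maxNil_eq hG hCN (hH.conj g) hH' ?_⟩
  have h5 : g * (x : G) * g⁻¹ ∈ ((hT₁.toSylow hidx : Sylow r G) : Subgroup G) := by
    rw [← hg, Sylow.coe_subgroup_smul]
    apply Cfsg.Agent.Lib.Basic.mem_conj_smul.mpr
    have h6 : g⁻¹ * (g * (x : G) * g⁻¹) * g = x := by group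
    rw [h6]
    exact hW (mem_zpowers _)
  have h7 : g * (x : G) * g⁻¹ ∈ H' := by
    have h8 : ((hT₁.toSylow hidx : Sylow r G) : Subgroup G) ≤ H' := by
      show (T₀ : Subgroup H').map H'.subtype ≤ H'
      exact Subgroup.map_subtype_le _
    exact h8 h5
  have h9 : g * (x : G) * g⁻¹ ≠ 1 := by
    intro e
    have h10 : orderOf (x : G) = 1 := by
      rw [orderOf_eq_one_iff]
      have : (x : G) = g⁻¹ * (g * (x : G) * g⁻¹) * g := by group
      rw [this, e]
      group
    rw [hxo] at h10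
    exact hrp.one_lt.ne' h10
  intro hb
  apply h9
  have h11 : g * (x : G) * g⁻¹ ∈ H.map (MulAut.conj g).toMonoidHom ⊓ H' :=
    ⟨⟨x, x.2, rfl⟩, h7⟩
  rw [hb] at h11
  exact Subgroup.mem_bot.mp h11

theorem false_of_minSimple_cn (hG : IsMinSimpleOddOrder G) (hCN : IsCNGroup G) : False := by
  classical
  haveI := ms_nontrivial hG
  letI s : Setoid {H : Subgroup G // IsMaxNil H} :=
    { r := fun A B => ∃ g : G, A.1.map (MulAut.conj g).toMonoidHom = B.1
      iseqv := by
        refine ⟨fun A => ⟨1, ?_⟩, ?_, ?_⟩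
        · ext y
          simp
        · rintro A B ⟨g, hg⟩
          refine ⟨g⁻¹, ?_⟩
          rw [← hg, Subgroup.map_map]
          ext y
          simp [MulAut.conj_apply, mul_assoc]
        · rintro A B C ⟨g, hg⟩ ⟨h, hh⟩
          refine ⟨h * g, ?_⟩
          rw [← hh, ← hg, Subgroup.map_map]
          ext y
          simp [MulAut.conj_apply, mul_assoc] }
  letI : Fintype G := Fintype.ofFinite G
  letI : Fintype (Quotient s) := Fintype.ofFinite _
  obtain ⟨H₀, hH₀, -⟩ := maxNil_mem (1 : G)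
  haveI : Nonempty (Quotient s) := ⟨Quotient.mk s ⟨H₀, hH₀⟩⟩
  let H : Quotient s → Subgroup G := fun i => (Quotient.out i).1
  have hHm : ∀ i, IsMaxNil (H i) := fun i => (Quotient.out i).2
  let L : Quotient s → Subgroup G := fun i => normalizer ((H i : Subgroup G) : Set G)
  letI : ∀ i, Fintype (L i) := fun i => Fintype.ofFinite _
  refine Cfsg.Agent.Lib.OddChar.partition_false H L hG.1 (fun i => ?_) (fun i j hij => ?_) (fun g hg => ?_)
  · refine ⟨lt_of_le_of_ne Subgroup.le_normalizer (maxNil_normalizer_ne hG hCN (hHm i)).symm,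
      maxNil_ne_bot (hHm i), ?_, ?_, ?_, rfl⟩
    · intro x hx h hh
      exact (Subgroup.mem_normalizer_iff.mp hx h).mp hh
    · intro h hh hh1
      exact inf_le_right.trans (maxNil_centralizer_le hG hCN (hHm i) hh hh1)
    · intro g hgn x hx hgx
      by_contra hx1
      have h1 : (H i).map (MulAut.conj g).toMonoidHom ≠ H i := fun e =>
        hgn (Cfsg.Agent.Lib.Transfer.map_conj_eq_iff.mp e)
      have h2 := maxNil_ti hG hCN (hHm i) g h1
      have h3 : g * x * g⁻¹ ∈ H i ⊓ (H i).map (MulAut.conj g).toMonoidHom := ⟨hgx, ⟨x, hx, rfl⟩⟩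
      rw [h2, Subgroup.mem_bot] at h3
      apply hx1
      have : x = g⁻¹ * (g * x * g⁻¹) * g := by group
      rw [this, h3]
      group
  · by_contra hcon
    obtain ⟨r, hr, h1, h2⟩ := Nat.Prime.not_coprime_iff_dvd.mp hcon
    haveI := Fact.mk hr
    obtain ⟨g, hg⟩ := maxNil_conj_of_prime hG hCN (hHm i) (hHm j) h1 h2
    apply hij
    have h3 : (Quotient.out i) ≈ (Quotient.out j) := ⟨g, hg⟩
    have h4 := Quotient.sound h3
    rwa [Quotient.out_eq, Quotient.out_eq] at h4
  · obtain ⟨H₁, hH₁, hgH₁⟩ := maxNil_mem g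
    obtain ⟨y, hy⟩ : ∃ y : G, (H (Quotient.mk s ⟨H₁, hH₁⟩)).map (MulAut.conj y).toMonoidHom = H₁ :=
      Quotient.mk_out (s := s) ⟨H₁, hH₁⟩
    refine ⟨Quotient.mk s ⟨H₁, hH₁⟩, y⁻¹, ?_⟩
    rw [← hy] at hgH₁
    obtain ⟨h, hh, rfl⟩ := hgH₁
    have h6 : y⁻¹ * ((MulAut.conj y).toMonoidHom h) * y⁻¹⁻¹ = h := by
      simp [MulAut.conj_apply, mul_assoc]
    rw [h6]
    exact hh

end Cfsg.Agent.Lib.CNThm
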